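import Groth.Prelude.Def_FreeSh
import Groth.Agent.CohAcyc.Shift
import Groth.Agent.CohAcyc.ModFree
import Groth.Agent.CohAcyc.Sections
import Groth.Agent.SiteCoh.OverExt
import Mathlib.CategoryTheory.Limits.Constructions.Over.Connected
import Mathlib.CategoryTheory.Limits.Constructions.FiniteProductsOfBinaryProducts

/-! # Cohomology of the restriction along a continuous cocontinuous functor commuting with pullbacks -/

set_option autoImplicit false
set_option linter.all false
set_option backward.isDefEq.respectTransparency false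
set_option backward.defeqAttrib.useBackward true

noncomputable section

universe u

open CategoryTheory CategoryTheory.Limits CategoryTheory.Abelian Opposite

namespace Groth.Agent.SitePullCoh

variable {C D : Type u} [SmallCategory C] [SmallCategory D]

theorem post_preservesFiniteLimits [HasPullbacks C] (u : C ⥤ D) [PreservesLimitsOfShape WalkingCospan u] (U : C) :
    PreservesFiniteLimits (Over.post (X := U) u) := by
  haveI : HasTerminal (Over U) := (Over.mkIdTerminal (X := U)).hasTerminal
  haveI : PreservesLimitsOfShape WalkingCospan (Over.post (X := U) u ⋙ Over.forget (u.obj U)) :=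
    inferInstanceAs (PreservesLimitsOfShape WalkingCospan (Over.forget U ⋙ u))
  haveI : PreservesLimitsOfShape WalkingCospan (Over.post (X := U) u) :=
    preservesLimitsOfShape_of_reflects_of_preserves (Over.post (X := U) u) (Over.forget (u.obj U))
  have hT : IsTerminal ((Over.post (X := U) u).obj (Over.mk (𝟙 U))) :=
    (Over.mkIdTerminal (X := u.obj U)).ofIso
      (Over.isoMk (f := Over.mk (𝟙 (u.obj U))) (g := (Over.post (X := U) u).obj (Over.mk (𝟙 U))) (Iso.refl _) (by simp))
  haveI : PreservesLimit (Functor.empty.{0} (Over U)) (Over.post (X := U) u) :=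
    preservesLimit_of_preserves_limit_cone (Over.mkIdTerminal (X := U))
      (isLimitChangeEmptyCone _ hT _ (Iso.refl _))
  haveI : PreservesLimitsOfShape (Discrete.{0} PEmpty.{1}) (Over.post (X := U) u) :=
    preservesLimitsOfShape_pempty_of_preservesTerminal _
  exact preservesFiniteLimits_of_preservesTerminal_and_pullbacks _

/-- `ℤ_t` is the constant sheaf for a terminal object `t` -/
def constFreeIso (J : GrothendieckTopology C) (t : C) (ht : IsTerminal t) :
    CohCx.freeSheaf J t ≅ (constantSheaf J AddCommGrpCat.{u}).obj (AddCommGrpCat.of (ULift.{u} ℤ)) :=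
  let Φ : coyoneda.obj (op ((constantSheaf J AddCommGrpCat.{u}).obj (AddCommGrpCat.of (ULift.{u} ℤ)))) ≅
      coyoneda.obj (op (CohCx.freeSheaf J t)) :=
    NatIso.ofComponents (fun F => Equiv.toIso ((((constantSheafAdj J AddCommGrpCat.{u} ht).homEquiv _ F).trans
        (SiteCoh.OverExact.intHomEquiv _)).trans (CohAcyc.secEquiv' t F).symm))
      (fun {F G} h => by
        ext φ
        apply (CohAcyc.secEquiv' t G).injective
        show CohAcyc.secEquiv' t G ((CohAcyc.secEquiv' t G).symm
            (SiteCoh.OverExact.intHomEquiv _ ((constantSheafAdj J AddCommGrpCat.{u} ht).homEquiv _ G (φ ≫ h)))) =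
          CohAcyc.secEquiv' t G (((CohAcyc.secEquiv' t F).symm
            (SiteCoh.OverExact.intHomEquiv _ ((constantSheafAdj J AddCommGrpCat.{u} ht).homEquiv _ F φ))) ≫ h)
        rw [CohAcyc.secEquiv'_comp, Equiv.apply_symm_apply, Equiv.apply_symm_apply, Adjunction.homEquiv_naturality_right]
        rfl)
  (Coyoneda.fullyFaithful.preimageIso Φ).unop

variable (J : GrothendieckTopology C) (K : GrothendieckTopology D) (u : C ⥤ D)

theorem subsingleton_HU_push [HasPullbacks C] (hu : CoverPreserving J K u)
    [PreservesLimitsOfShape WalkingCospan u] [u.IsContinuous J K]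
    (I : Sheaf K AddCommGrpCat.{u}) [Injective I] (U : C) (p : ℕ) :
    Subsingleton (CohSite.HU ((CohSite.push K J u).obj I) (p + 1) U) := by
  haveI : HasTerminal (Over U) := (Over.mkIdTerminal (X := U)).hasTerminal
  haveI : HasFiniteLimits (Over U) := hasFiniteLimits_of_hasTerminal_and_pullbacks
  let v : Over U ⥤ Over (u.obj U) := Over.post u
  haveI : PreservesFiniteLimits v := post_preservesFiniteLimits u U
  haveI : RepresentablyFlat v := flat_of_preservesFiniteLimits v
  haveI : v.IsContinuous (J.over U) (K.over (u.obj U)) :=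
    Functor.isContinuous_of_coverPreserving (compatiblePreservingOfFlat (K.over (u.obj U)) v) (hu.overPost U)
  haveI : PreservesFiniteLimits (v.sheafPullback (Type u) (J.over U) (K.over (u.obj U))) :=
    Functor.sheafPullbackConstruction.preservesFiniteLimits v (Type u) (J.over U) (K.over (u.obj U))
  haveI : Injective ((SiteCoh.OverExact.res (u.obj U) K).obj I) := by
    haveI := SiteCoh.OverExact.sheafPullback_over_preservesFiniteLimits (u.obj U) K
    haveI := preservesMonomorphisms_of_preservesLimitsOfShape (SiteCoh.OverExact.shr (u.obj U) K)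
    exact Injective.injective_of_adjoint (SiteCoh.OverExact.shrAdj (u.obj U) K) I
  have h : CohCx.IsTotallyAcyclic ((CohSite.push (K.over (u.obj U)) (J.over U) v).obj
      ((SiteCoh.OverExact.res (u.obj U) K).obj I)) := CohAcyc.isTotallyAcyclic_push v
    (CohAcyc.isTotallyAcyclic_of_injective ((SiteCoh.OverExact.res (u.obj U) K).obj I))
  have h1 := CohAcyc.subsingleton_HU h (Over.mk (𝟙 U)) p
  haveI : Subsingleton (Ext ((constantSheaf (J.over U) AddCommGrpCat.{u}).obj (AddCommGrpCat.of (ULift.{u} ℤ)))
      ((SiteCoh.OverExact.res U J).obj ((CohSite.push K J u).obj I)) (p + 1)) := by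
    refine CohAcyc.subsingleton_of_iso (constFreeIso (J.over U) (Over.mk (𝟙 U)) Over.mkIdTerminal) ?_ h1
    exact (fullyFaithfulSheafToPresheaf _ _).preimageIso (NatIso.ofComponents fun _ => Iso.refl _)
  obtain ⟨e⟩ := SiteCoh.OverExact.nonempty_shrExt U J
    ((constantSheaf (J.over U) AddCommGrpCat.{u}).obj (AddCommGrpCat.of (ULift.{u} ℤ)))
    ((CohSite.push K J u).obj I) (p + 1)
  have h3 : Subsingleton (Ext (SiteCoh.OverExact.shrZ U J) ((CohSite.push K J u).obj I) (p + 1)) :=
    e.toEquiv.subsingleton
  exact CohAcyc.subsingleton_of_iso (SiteCoh.OverExact.freeSheafShrIso U J).symm (Iso.refl _) h3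

section Compare

variable [u.IsContinuous J K] [u.IsCocontinuous J K]

instance push_preservesFiniteColimits : PreservesFiniteColimits (CohSite.push K J u) :=
  haveI := (u.sheafAdjunctionCocontinuous AddCommGrpCat.{u} J K).leftAdjoint_preservesColimits
  PreservesColimitsOfSize.preservesFiniteColimits.{u, u} _

instance push_preservesFiniteLimits : PreservesFiniteLimits (CohSite.push K J u) :=
  haveI : PreservesLimitsOfSize.{0, 0} (CohSite.push K J u) :=
    (u.sheafAdjunctionContinuous AddCommGrpCat.{u} J K).rightAdjoint_preservesLimits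
  PreservesLimitsOfSize.preservesFiniteLimits.{0, 0} _

/-- sections of the restriction -/
def secShift (U : C) (M : Sheaf K AddCommGrpCat.{u}) :
    (CohCx.freeSheaf J U ⟶ (CohSite.push K J u).obj M) ≃+ (CohCx.freeSheaf K (u.obj U) ⟶ M) :=
  (CohFree.homEquivSect J U _).trans (CohFree.homEquivSect K (u.obj U) M).symm

lemma secShift_comp (U : C) {M N : Sheaf K AddCommGrpCat.{u}} (g : M ⟶ N)
    (φ : CohCx.freeSheaf J U ⟶ (CohSite.push K J u).obj M) :
    secShift J K u U N (φ ≫ (CohSite.push K J u).map g) = secShift J K u U M φ ≫ g := by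
  apply (CohFree.homEquivSect K (u.obj U) N).injective
  have e : ∀ ψ, CohFree.homEquivSect K (u.obj U) N (ψ ≫ g) =
      g.hom.app (op (u.obj U)) (CohFree.homEquivSect K (u.obj U) M ψ) := fun ψ => rfl
  rw [e]
  simp only [secShift, AddEquiv.trans_apply]
  erw [AddEquiv.apply_symm_apply, AddEquiv.apply_symm_apply]
  rfl

theorem nonempty_HU_push [HasPullbacks C] (hu : CoverPreserving J K u)
    [PreservesLimitsOfShape WalkingCospan u] (F : Sheaf K AddCommGrpCat.{u}) (U : C) (p : ℕ) :
    Nonempty (CohSite.HU ((CohSite.push K J u).obj F) p U ≃+ CohSite.HU F p (u.obj U)) := by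
  obtain ⟨e⟩ := CohAcyc.nonempty_ext_equiv (CohSite.push K J u) (secShift J K u U) (secShift_comp J K u U)
    (fun I hI q => haveI := hI; subsingleton_HU_push J K u hu I U q) p F
  exact ⟨e.symm⟩

theorem nonempty_H_push [HasPullbacks C] (hu : CoverPreserving J K u)
    [PreservesLimitsOfShape WalkingCospan u] (t : C) (ht : IsTerminal t) (ht' : IsTerminal (u.obj t))
    (F : Sheaf K AddCommGrpCat.{u}) (p : ℕ) :
    Nonempty (Sheaf.H ((CohSite.push K J u).obj F) p ≃+ Sheaf.H F p) := by
  obtain ⟨e⟩ := nonempty_HU_push J K u hu F t p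
  exact ⟨((((extFunctor p).mapIso ((constFreeIso J t ht).op)).app
      ((CohSite.push K J u).obj F)).addCommGroupIsoToAddEquiv.trans e).trans
    ((((extFunctor p).mapIso ((constFreeIso K (u.obj t) ht').symm.op)).app F).addCommGroupIsoToAddEquiv)⟩

end Compare

end Groth.Agent.SitePullCoh
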