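import Groth.Agent.CohAcyc.Free
import Mathlib.CategoryTheory.Sites.PreservesSheafification
import Mathlib.CategoryTheory.Sites.Pullback
import Mathlib.CategoryTheory.Limits.Shapes.Pullback.CommSq
import Groth.Agent.CohAcyc.Basic
import Groth.Agent.CohAcyc.Free
import Mathlib.CategoryTheory.Limits.Constructions.Over.Connected
import Mathlib.CategoryTheory.Limits.Constructions.FiniteProductsOfBinaryProducts

/-! # Direct images of totally acyclic sheaves when the inverse image preserves fibre products -/

set_option autoImplicit false
set_option linter.all false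
set_option backward.isDefEq.respectTransparency false
set_option backward.defeqAttrib.useBackward true

universe u

open CategoryTheory CategoryTheory.Limits CategoryTheory.Abelian Opposite AlgebraicTopology
open scoped Simplicial

namespace Groth.Agent.SitePullCoh

open Groth.Agent.CohAcyc hiding wpMapHom wpMapHom_π wpMapHom_base nerveMapIso pullCechIso isTotallyAcyclic_push

variable {C : Type u} [SmallCategory C] {J : GrothendieckTopology C}
variable {D : Type u} [SmallCategory D] {K : GrothendieckTopology D} (u : D ⥤ C) [u.IsContinuous K J]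

section Nerve

variable {A B : Type*} [Category* A] [Category* B] (G : A ⥤ B) [HasFiniteLimits A]
    [HasFiniteLimits B] [PreservesLimitsOfShape WalkingCospan G] {X Y : A} (f : X ⟶ Y) (ι : Type) [Finite ι]

/-- comparison for wide pullbacks of copies of `f` -/
noncomputable def wpMapHom : G.obj (widePullback Y (fun _ : ι => X) fun _ => f) ⟶
    widePullback (G.obj Y) (fun _ : ι => G.obj X) fun _ => G.map f :=
  WidePullback.lift (G.map (WidePullback.base _)) (fun i => G.map (WidePullback.π _ i))
    (fun i => (G.map_comp _ _).symm.trans (congrArg G.map (WidePullback.π_arrow _ i)))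

lemma wpMapHom_π (i : ι) : wpMapHom G f ι ≫ WidePullback.π _ i = G.map (WidePullback.π _ i) :=
  WidePullback.lift_π _ _ _ _ i

lemma wpMapHom_base : wpMapHom G f ι ≫ WidePullback.base _ = G.map (WidePullback.base _) :=
  WidePullback.lift_base _ _ _ _

instance isIso_wpMapHom : IsIso (wpMapHom G f ι) := by
  haveI := Fintype.ofFinite ι
  haveI : PreservesFiniteLimits (Over.post (X := Y) G) := by
    haveI : PreservesLimitsOfShape WalkingCospan (Over.post (X := Y) G ⋙ Over.forget (G.obj Y)) :=
      inferInstanceAs (PreservesLimitsOfShape WalkingCospan (Over.forget Y ⋙ G))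
    haveI : PreservesLimitsOfShape WalkingCospan (Over.post (X := Y) G) :=
      preservesLimitsOfShape_of_reflects_of_preserves (Over.post (X := Y) G) (Over.forget (G.obj Y))
    have hT : IsTerminal ((Over.post (X := Y) G).obj (Over.mk (𝟙 Y))) :=
      (Over.mkIdTerminal (X := G.obj Y)).ofIso
        (Over.isoMk (f := Over.mk (𝟙 (G.obj Y))) (g := (Over.post (X := Y) G).obj (Over.mk (𝟙 Y))) (Iso.refl _) (by simp))
    haveI : PreservesLimit (Functor.empty.{0} (Over Y)) (Over.post (X := Y) G) :=
      preservesLimit_of_preserves_limit_cone (Over.mkIdTerminal (X := Y)) (isLimitChangeEmptyCone _ hT _ (Iso.refl _))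
    haveI : PreservesLimitsOfShape (Discrete.{0} PEmpty.{1}) (Over.post (X := Y) G) :=
      preservesLimitsOfShape_pempty_of_preservesTerminal _
    haveI : HasTerminal (Over Y) := (Over.mkIdTerminal (X := Y)).hasTerminal
    exact preservesFiniteLimits_of_preservesTerminal_and_pullbacks _
  let P : Over Y := Over.mk (WidePullback.base (fun _ : ι => f))
  let c : Fan (fun _ : ι => Over.mk f) :=
    Fan.mk P fun i => Over.homMk (WidePullback.π (fun _ : ι => f) i) (WidePullback.π_arrow _ i)
  have hc : IsLimit c := mkFanLimit _
    (fun s => Over.homMk (WidePullback.lift s.pt.hom (fun i => (s.proj i).left) (fun i => Over.w (s.proj i)))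
      (WidePullback.lift_base ..))
    (fun s i => Over.OverMorphism.ext (WidePullback.lift_π ..))
    (fun s m hm => Over.OverMorphism.ext (WidePullback.hom_ext _ _ _
      (fun i => (congrArg CommaMorphism.left (hm i)).trans (Eq.symm (by erw [WidePullback.lift_π])))
      ((Over.w m).trans (WidePullback.lift_base ..).symm)))
  let hd := isLimitFanMkObjOfIsLimit (Over.post (X := Y) G) _ _ hc
  let W : Over (G.obj Y) := Over.mk (WidePullback.base (fun _ : ι => G.map f))
  let back : W ⟶ (Over.post (X := Y) G).obj P :=
    Fan.IsLimit.desc hd fun i => Over.homMk (WidePullback.π (fun _ : ι => G.map f) i) (WidePullback.π_arrow _ i)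
  let fwd : (Over.post (X := Y) G).obj P ⟶ W := Over.homMk (wpMapHom G f ι) (wpMapHom_base G f ι)
  refine ⟨back.left, ?_, ?_⟩
  · have : fwd ≫ back = 𝟙 _ := by
      refine Fan.IsLimit.hom_ext hd _ _ fun i => Over.OverMorphism.ext ?_
      have e := congrArg CommaMorphism.left (Fan.IsLimit.fac hd
        (fun i => (Over.homMk (WidePullback.π (fun _ : ι => G.map f) i) (WidePullback.π_arrow _ i) :
          W ⟶ (Over.post (X := Y) G).obj (Over.mk f))) i)
      show (wpMapHom G f ι ≫ back.left) ≫ _ = 𝟙 _ ≫ _
      rw [Category.assoc, Category.id_comp]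
      exact (congrArg (wpMapHom G f ι ≫ ·) e).trans (wpMapHom_π G f ι i)
    exact congrArg CommaMorphism.left this
  · refine WidePullback.hom_ext _ _ _ (fun i => ?_) ?_
    · rw [Category.assoc, wpMapHom_π, Category.id_comp]
      exact congrArg CommaMorphism.left (Fan.IsLimit.fac hd
        (fun i => (Over.homMk (WidePullback.π (fun _ : ι => G.map f) i) (WidePullback.π_arrow _ i) :
          W ⟶ (Over.post (X := Y) G).obj (Over.mk f))) i)
    · rw [Category.assoc, wpMapHom_base, Category.id_comp]
      exact Over.w back

/-- a functor preserving wide pullbacks commutes with Čech nerves -/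
noncomputable def nerveMapIso : (Arrow.mk f).cechNerve ⋙ G ≅ (Arrow.mk (G.map f)).cechNerve :=
  NatIso.ofComponents (fun m => asIso (wpMapHom G f (Fin (m.unop.len + 1))))
    (fun {m m'} g => by
      refine WidePullback.hom_ext _ _ _ (fun i => ?_) ?_
      · refine (Category.assoc _ _ _).trans ((congrArg (_ ≫ ·) (wpMapHom_π G f _ i)).trans ?_)
        refine ((G.map_comp _ _).symm.trans (congrArg G.map (WidePullback.lift_π _ _ _ _ i))).trans ?_
        refine (wpMapHom_π G f _ _).symm.trans ?_
        refine Eq.trans ?_ (Category.assoc _ _ _).symm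
        refine congrArg (_ ≫ ·) (Eq.symm ?_)
        exact WidePullback.lift_π (arrows := fun _ : Fin (m'.unop.len + 1) => G.map f) _ _ _ i
      · refine (Category.assoc _ _ _).trans ((congrArg (_ ≫ ·) (wpMapHom_base G f _)).trans ?_)
        refine ((G.map_comp _ _).symm.trans (congrArg G.map (WidePullback.lift_base _ _ _ _))).trans ?_
        refine (wpMapHom_base G f _).symm.trans ?_
        refine Eq.trans ?_ (Category.assoc _ _ _).symm
        exact congrArg (_ ≫ ·) (WidePullback.lift_base _ _ _ _).symm)

end Nerve

variable [PreservesLimitsOfShape WalkingCospan (u.sheafPullback (Type u) K J)]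

/-- `u⁻¹` of a free Čech complex -/
noncomputable def pullCechIso {X Y : Sheaf K (Type u)} (f : X ⟶ Y) :
    (haveI : (u.sheafPullback AddCommGrpCat.{u} K J).Additive :=
      (u.sheafAdjunctionContinuous AddCommGrpCat.{u} K J).left_adjoint_additive
    ((u.sheafPullback AddCommGrpCat.{u} K J).mapHomologicalComplex (ComplexShape.down ℕ)).obj (zCech f)) ≅
      zCech ((u.sheafPullback (Type u) K J).map f) :=
  haveI : (u.sheafPullback AddCommGrpCat.{u} K J).Additive :=
    (u.sheafAdjunctionContinuous AddCommGrpCat.{u} K J).left_adjoint_additive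
  eqToIso (Functor.congr_obj (map_alternatingFaceMapComplex (u.sheafPullback AddCommGrpCat.{u} K J)) (zAug f).left) ≪≫
    (alternatingFaceMapComplex _).mapIso
      (Functor.associator _ _ _ ≪≫ Functor.isoWhiskerLeft _ (pullZIso u) ≪≫ (Functor.associator _ _ _).symm ≪≫
        Functor.isoWhiskerRight (nerveMapIso (u.sheafPullback (Type u) K J) f) (zF J))

/-- Direct images of totally acyclic sheaves are totally acyclic. -/
theorem isTotallyAcyclic_push {F : Ab J} (hF : CohCx.IsTotallyAcyclic F) :
    CohCx.IsTotallyAcyclic ((CohSite.push J K u).obj F) := by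
  haveI : (u.sheafPullback AddCommGrpCat.{u} K J).Additive :=
    (u.sheafAdjunctionContinuous AddCommGrpCat.{u} K J).left_adjoint_additive
  haveI : (u.sheafPullback (Type u) K J).IsLeftAdjoint :=
    ⟨_, ⟨u.sheafAdjunctionContinuous (Type u) K J⟩⟩
  exact isTotallyAcyclic_of_cech _ fun k' k f _ =>
    homExact_of_adjunction (u.sheafAdjunctionContinuous AddCommGrpCat.{u} K J)
      (homExact_of_iso (pullCechIso u f) (homExact_of_isTotallyAcyclic hF _))


end Groth.Agent.SitePullCoh
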